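import Mathlib

/-!
# Helper39 / S1903: the group of order 320 (centralizer of an involution of `PSU_3(4)`)

Definitions shared by all pieces:

* `Rel x a`: the defining relations of the group `2^{2+4} : 5` on generators `x` (order 5) and
  `a` (order 4);
* `Tab x a0 a1 a2 a3 c1 c2`: the multiplication table they imply for the conjugates
  `a_i = x^i a x^{-i}` and the central involutions `c1 = [a0,a1]`, `c2 = [a0,a2]`;
* `Setup P Z x`: the abstract situation (`P = G'` of order 64, `Z = Z(P)` of order 4 and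
  exponent 2, `x` of order 5 in `G` of order 320).
-/

set_option autoImplicit false

namespace Cfsg.Agent.Helper39.C320

/-- the conjugate `x a x⁻¹` -/
def cj1 {H : Type*} [Group H] (x a : H) : H := x * a * x⁻¹

/-- the conjugate `x² a x⁻²` -/
def cj2 {H : Type*} [Group H] (x a : H) : H := x ^ 2 * a * (x ^ 2)⁻¹

/-- the conjugate `x³ a x⁻³` -/
def cj3 {H : Type*} [Group H] (x a : H) : H := x ^ 3 * a * (x ^ 3)⁻¹

/-- the commutator `[a, x a x⁻¹]` -/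
def k1 {H : Type*} [Group H] (x a : H) : H := a * cj1 x a * a⁻¹ * (cj1 x a)⁻¹

/-- the commutator `[a, x² a x⁻²]` -/
def k2 {H : Type*} [Group H] (x a : H) : H := a * cj2 x a * a⁻¹ * (cj2 x a)⁻¹

/-- the defining relations -/
structure Rel {H : Type*} [Group H] (x a : H) : Prop where
  x5 : x ^ 5 = 1
  ax5 : (a * x) ^ 5 = 1
  a4 : a ^ 4 = 1
  sx : (a * a) * x = x * (a * a)
  k1a : k1 x a * a = a * k1 x a
  k1x : k1 x a * x = x * k1 x a
  k2a : k2 x a * a = a * k2 x a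
  k2x : k2 x a * x = x * k2 x a
  k1sq : k1 x a * k1 x a = 1
  k2sq : k2 x a * k2 x a = 1

/-- the multiplication table (`a4 = x a3 x⁻¹ = c1 c2 a0 a1 a2 a3`) -/
structure Tab {H : Type*} [Group H] (x a0 a1 a2 a3 c1 c2 : H) : Prop where
  x5 : x ^ 5 = 1
  c1sq : c1 * c1 = 1
  c2sq : c2 * c2 = 1
  c21 : c2 * c1 = c1 * c2
  xc1 : x * c1 = c1 * x
  xc2 : x * c2 = c2 * x
  a0c1 : a0 * c1 = c1 * a0
  a1c1 : a1 * c1 = c1 * a1
  a2c1 : a2 * c1 = c1 * a2
  a3c1 : a3 * c1 = c1 * a3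
  a0c2 : a0 * c2 = c2 * a0
  a1c2 : a1 * c2 = c2 * a1
  a2c2 : a2 * c2 = c2 * a2
  a3c2 : a3 * c2 = c2 * a3
  sq0 : a0 * a0 = c1 * c2
  sq1 : a1 * a1 = c1 * c2
  sq2 : a2 * a2 = c1 * c2
  sq3 : a3 * a3 = c1 * c2
  r10 : a1 * a0 = c1 * (a0 * a1)
  r20 : a2 * a0 = c2 * (a0 * a2)
  r30 : a3 * a0 = c2 * (a0 * a3)
  r21 : a2 * a1 = c1 * (a1 * a2)
  r31 : a3 * a1 = c2 * (a1 * a3)
  r32 : a3 * a2 = c1 * (a2 * a3)
  xa0 : x * a0 = a1 * x
  xa1 : x * a1 = a2 * x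
  xa2 : x * a2 = a3 * x
  xa3 : x * a3 = c1 * (c2 * (a0 * (a1 * (a2 * (a3 * x)))))

/-- the abstract situation -/
structure Setup {G : Type*} [Group G] (P Z : Subgroup G) (x : G) : Prop where
  cardG : Nat.card G = 320
  cardP : Nat.card P = 64
  cardZ : Nat.card Z = 4
  normP : P.Normal
  comm : commutator G = P
  Z_le : Z ≤ P
  mem_Z : ∀ z : G, z ∈ Z ↔ z ∈ P ∧ ∀ p ∈ P, p * z = z * p
  sq_Z : ∀ z ∈ Z, z * z = 1
  ord_x : orderOf x = 5

end Cfsg.Agent.Helper39.C320
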