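import Cfsg.Agent.Helper23.U34E
import Cfsg.Agent.Helper39.U34.Act
import Cfsg.Agent.Helper39.C320.Defs

/-!
# Helper39 / S1903: the concrete elements of `G0 = SU_3(4)`

`X0` (order 5), `A0` (order 4), `T0 = A0²` (the involution), `X13`, `Z10`, `Z15` (orders 13, 10, 15),
and the stabiliser `Stab` of the point `6` (the only isotropic point fixed by `T0`).
-/

set_option autoImplicit false

namespace Cfsg.Agent.Helper39.C320

open Cfsg.Agent.Helper39.U34 Cfsg.Agent.Helper23.U34E

/-- matrix of the element of order 5 -/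
def x0m : Matrix (Fin 3) (Fin 3) GF16 := !![gf 8, gf 0, gf 0; gf 0, gf 10, gf 0; gf 0, gf 0, gf 8]

/-- matrix of the element of order 4 -/
def a0m : Matrix (Fin 3) (Fin 3) GF16 :=
  !![gf 4, gf 1, gf 6; gf 1, gf 1, gf 15; gf 14, gf 8, gf 4]

theorem det_x0m : x0m.det = 1 := by rw [Matrix.det_fin_three]; decide +kernel

theorem det_a0m : a0m.det = 1 := by rw [Matrix.det_fin_three]; decide +kernel

theorem rel_x0m : ∀ j k : Fin 3, ∑ i, x0m i j * (x0m i k) ^ 4 = if j = k then 1 else 0 := by
  decide +kernel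

theorem rel_a0m : ∀ j k : Fin 3, ∑ i, a0m i j * (a0m i k) ^ 4 = if j = k then 1 else 0 := by
  decide +kernel

/-- the element of order 5 -/
def X0 : G0 := mk x0m det_x0m rel_x0m

/-- the element of order 4 -/
def A0 : G0 := mk a0m det_a0m rel_a0m

/-- the involution -/
def T0 : G0 := A0 * A0

/-- an element of order 13 -/
def X13 : G0 := mk m13 det_m13 rel_m13

/-- an element of order 10 -/
def Z10 : G0 := mk m10 det_m10 rel_m10

/-- an element of order 15 -/
def Z15 : G0 := mk m15 det_m15 rel_m15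

theorem mat_X0 : mat X0 = x0m := rfl

theorem mat_A0 : mat A0 = a0m := rfl

theorem mat_T0 : mat T0 = a0m * a0m := rfl

theorem mat_X13 : mat X13 = m13 := rfl

theorem mat_Z10 : mat Z10 = m10 := rfl

theorem mat_Z15 : mat Z15 = m15 := rfl

/-- the stabiliser of the point `6` -/
def Stab : Subgroup G0 where
  carrier := {g | act g 6 = 6}
  one_mem' := act_one 6
  mul_mem' {g h} hg hh := by
    show act (g * h) 6 = 6
    rw [act_mul, show act h 6 = 6 from hh]
    exact hg
  inv_mem' {g} hg := by
    show act g⁻¹ 6 = 6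
    have h1 : act g⁻¹ (act g 6) = 6 := by rw [← act_mul, inv_mul_cancel, act_one]
    rw [show act g 6 = 6 from hg] at h1
    exact h1

theorem mem_Stab (g : G0) : g ∈ Stab ↔ act g 6 = 6 := Iff.rfl

end Cfsg.Agent.Helper39.C320
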