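import Cfsg.Agent.Helper39.C320.Conc
import Cfsg.Agent.Helper68.U34X
import Cfsg.Agent.Helper76.C320A1
import Cfsg.Agent.Helper53.C320A2
import Cfsg.Agent.Helper68.C320A3
import Cfsg.Agent.Helper55.C320A4
import Cfsg.Agent.Helper53.C320A5
import Cfsg.Agent.Helper75.C320A6
import Cfsg.Agent.Helper75.C320A7
import Cfsg.Agent.Helper76.C320A8
import Cfsg.Agent.Helper49.C320A9
import Cfsg.Agent.Helper81.C320A10
import Cfsg.Agent.Helper89.C320A11
import Cfsg.Agent.Helper55.C320A12
import Cfsg.Agent.Helper49.C320A13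
import Cfsg.Agent.Helper12.C320TB
import Cfsg.Agent.Helper12.C320NF
import Cfsg.Agent.Helper81.C320GL
import Cfsg.Agent.Helper50.C320C1
import Cfsg.Agent.Helper48.C320C2
import Cfsg.Agent.Helper59.C320C3
import Cfsg.Agent.Helper59.C320C4
import Cfsg.Agent.Helper24.C320C5
import Cfsg.Agent.Helper24.C320C6
import Cfsg.Agent.Helper48.C320C7
import Cfsg.Agent.Helper87.C320C8
import Cfsg.Agent.Helper87.C320C9

/-!
# Helper39 / S1903: assembly

A group of order 320 with `|G'| = 64` and `Z(G')` a four-group is the centraliser of an involution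
of `PSU_3(4)`.  Pieces by helper12 (TB, NF), helper24 (C5, C6), helper48 (C2, C7), helper49 (A9, A13),
helper50 (C1), helper53 (A2, A5), helper55 (A4, A12), helper59 (C3, C4), helper68 (A3), helper75
(A6, A7), helper76 (A1, A8), helper81 (A10, GL), helper87 (C8, C9), helper89 (A11).
-/

set_option autoImplicit false

namespace Cfsg.Agent.Helper39.C320

open Cfsg.Agent.Helper39.U34 Cfsg.Agent.Helper23.U34E

theorem card_le_of_rel {H : Type*} [Group H] [Finite H] (x a : H) (h : Rel x a)
    (hgen : Subgroup.closure {x, a} = ⊤) : Nat.card H ≤ 320 :=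
  Cfsg.Agent.Helper12.C320.card_le_of_tab x a _ _ _ _ _
    (Cfsg.Agent.Helper12.C320.tab_of_rel x a h) hgen

/-- assembly of Part A -/
theorem exists_gens {G : Type*} [Group G] [Finite G] (hG : Nat.card G = 320)
    (hD : Nat.card (commutator G) = 64)
    (hZ : IsKleinFour (Subgroup.center (commutator G))) :
    ∃ x a : G, Rel x a ∧ Subgroup.closure {x, a} = ⊤ := by
  obtain ⟨x, h⟩ := Cfsg.Agent.Helper76.C320.exists_setup hG hD hZ
  have htop := Cfsg.Agent.Helper53.C320.Setup.eq_top h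
  have hcen := Cfsg.Agent.Helper68.C320.Setup.central h htop
  have hnc := Cfsg.Agent.Helper55.C320.Setup.not_comm h htop
  have hmod := Cfsg.Agent.Helper53.C320.card_modEq_fixed x h.ord_x
  have hfix := Cfsg.Agent.Helper75.C320.Setup.fix h hcen hnc hmod
  have hinv := Cfsg.Agent.Helper75.C320.Setup.inv h hcen hfix hmod
  have hfpf := Cfsg.Agent.Helper76.C320.Setup.fpf h hcen hnc hinv
  have hab := Cfsg.Agent.Helper49.C320.Setup.comm_mem h hcen hinv
  have hnorm := Cfsg.Agent.Helper89.C320.Setup.norm_mem h hfpf hab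
  obtain ⟨a, haP, haZ, hrel⟩ := Cfsg.Agent.Helper55.C320.Setup.exists_rel h hcen hab hnorm
    (Cfsg.Agent.Helper81.C320.Setup.exists_sq h)
  exact ⟨x, a, hrel, Cfsg.Agent.Helper49.C320.Setup.closure_eq_top h hcen htop hinv a haP haZ⟩

theorem closure_pair_eq_top {G : Type*} [Group G] (K : Subgroup G) (x a : G) (hx : x ∈ K)
    (ha : a ∈ K) (hK : Subgroup.closure {x, a} = K) :
    Subgroup.closure ({⟨x, hx⟩, ⟨a, ha⟩} : Set K) = ⊤ := by
  apply Subgroup.map_injective K.subtype_injective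
  rw [MonoidHom.map_closure, ← MonoidHom.range_eq_map, Subgroup.range_subtype]
  have : (K.subtype '' {⟨x, hx⟩, ⟨a, ha⟩} : Set G) = {x, a} := by
    rw [Set.image_pair]; rfl
  rw [this, hK]

theorem closure_card_le : Nat.card (Subgroup.closure ({X0, A0} : Set G0)) ≤ 320 := by
  have hX : X0 ∈ Subgroup.closure ({X0, A0} : Set G0) :=
    Subgroup.subset_closure (Set.mem_insert _ _)
  have hA : A0 ∈ Subgroup.closure ({X0, A0} : Set G0) :=
    Subgroup.subset_closure (Set.mem_insert_of_mem _ rfl)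
  have hrel : Rel (⟨X0, hX⟩ : Subgroup.closure ({X0, A0} : Set G0)) ⟨A0, hA⟩ :=
    Cfsg.Agent.Helper81.C320.Rel.of_map (Subgroup.closure ({X0, A0} : Set G0)).subtype
      Subtype.coe_injective Cfsg.Agent.Helper50.C320.rel_conc
  exact card_le_of_rel _ _ hrel (closure_pair_eq_top _ X0 A0 hX hA rfl)

theorem main {G : Type*} [Group G] [Finite G] (hG : Nat.card G = 320)
    (hD : Nat.card (commutator G) = 64)
    (hZ : IsKleinFour (Subgroup.center (commutator G)))
    {F : Type*} [Field F] [Fintype F] (hF : Fintype.card F = 16) :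
    ∃ t : Cfsg.PSU 3 F 4, orderOf t = 2 ∧
      Nonempty (G ≃* Subgroup.centralizer ({t} : Set (Cfsg.PSU 3 F 4))) := by
  obtain ⟨e⟩ := Cfsg.Agent.Helper68.U34X.psu_equiv hF
  obtain ⟨x, a, hrel, hgen⟩ := exists_gens hG hD hZ
  have rel_conc := Cfsg.Agent.Helper50.C320.rel_conc
  obtain ⟨hcl, hcard⟩ := Cfsg.Agent.Helper87.C320.conc_main rel_conc
    Cfsg.Agent.Helper59.C320.card_closure_ge closure_card_le
    (Cfsg.Agent.Helper24.C320.card_Stab Cfsg.Agent.Helper59.C320.exists_act_eq
      Cfsg.Agent.Helper68.U34X.card_G0)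
    Cfsg.Agent.Helper24.C320.centralizer_le_Stab Cfsg.Agent.Helper48.C320.exists_not_comm
  refine ⟨e.symm T0, ?_, ?_⟩
  · rw [MulEquiv.orderOf_eq]; exact Cfsg.Agent.Helper48.C320.orderOf_T0
  · -- the centraliser in `G0`
    have hX : X0 ∈ Subgroup.centralizer ({T0} : Set G0) := by
      rw [← hcl]; exact Subgroup.subset_closure (Set.mem_insert _ _)
    have hA : A0 ∈ Subgroup.centralizer ({T0} : Set G0) := by
      rw [← hcl]; exact Subgroup.subset_closure (Set.mem_insert_of_mem _ rfl)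
    have hrel0 : Rel (⟨X0, hX⟩ : Subgroup.centralizer ({T0} : Set G0)) ⟨A0, hA⟩ :=
      Cfsg.Agent.Helper81.C320.Rel.of_map (Subgroup.centralizer ({T0} : Set G0)).subtype
        Subtype.coe_injective rel_conc
    have hgen0 : Subgroup.closure
        ({⟨X0, hX⟩, ⟨A0, hA⟩} : Set (Subgroup.centralizer ({T0} : Set G0))) = ⊤ :=
      closure_pair_eq_top _ X0 A0 hX hA hcl
    have : Finite (Subgroup.centralizer ({T0} : Set G0)) := inferInstance
    obtain ⟨φ⟩ := Cfsg.Agent.Helper81.C320.nonempty_mulEquiv_of_rel hG hcard x a _ _ hrel hrel0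
      hgen hgen0
      (fun D u v huv hcl' => by
        have : Finite D := inferInstance
        exact card_le_of_rel u v huv hcl')
    obtain ⟨ψ⟩ := Cfsg.Agent.Helper87.C320.centralizer_equiv e.symm T0
    exact ⟨φ.trans ψ⟩

end Cfsg.Agent.Helper39.C320
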